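import Groth.Prelude.Def_CohDer
import Groth.Agent.H16Derived.BB.Acyclic
import Groth.Agent.H16Derived.QCoprod
import Groth.Agent.H16Derived.QCohD.FinSupp

/-!
# Morphisms from a single object into coproducts in the derived category

If `G` is an object such that maps from `G` into direct sums have finite support and such that direct sums of
injectives are `Ext(G, -)`-acyclic, then maps from `G[m]` into direct sums of uniformly bounded below objects of
the derived category have finite support; if `G` moreover has finite cohomological dimension, into all direct sums.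
-/

set_option autoImplicit false
set_option linter.style.haveILetI false
set_option linter.unusedSectionVars false
set_option backward.isDefEq.respectTransparency false
set_option backward.isDefEq.respectTransparency.types false

universe w' w v u

open CategoryTheory CategoryTheory.Limits CategoryTheory.Abelian

namespace Groth.Agent.H15Site.CompactFree

open Groth.Agent.H16Derived Groth.Agent.H16Derived.QCohD Groth.Agent.H16Derived.BB

variable {A : Type u} [Category.{v} A] [Abelian A] [IsGrothendieckAbelian.{v} A]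

/-- Maps from `G` into direct sums have finite support. -/
abbrev FinMaps (G : A) : Prop :=
  ∀ (κ : Type v) (F : κ → A) (g : G ⟶ ∐ F), ∃ s : Finset κ, g ≫ FinSupp.idem F s = g

/-- Direct sums of injectives are acyclic for `G`. -/
abbrev SumAcyclic [HasExt.{w'} A] (G : A) : Prop :=
  ∀ (κ : Type v) (F : κ → A), (∀ i, Injective (F i)) → ExtAcyclic.{w'} G (∐ F)

variable [HasDerivedCategory.{w} A]

/-- Finite support only depends on the family up to isomorphism. -/
lemma exists_support_of_iso {D : Type*} [Category D] [Preadditive D] {κ : Type v} {M N : κ → D}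
    [HasCoproduct M] [HasCoproduct N] (e : ∀ i, M i ≅ N i) {K : D}
    (h : ∀ α : K ⟶ ∐ N, ∃ s, α ≫ FinSupp.idem N s = α) (α : K ⟶ ∐ M) :
    ∃ s, α ≫ FinSupp.idem M s = α := by
  obtain ⟨s, hs⟩ := h (α ≫ Limits.Sigma.map fun i => (e i).hom)
  refine ⟨s, ?_⟩
  have hn : (Limits.Sigma.map fun i => (e i).hom) ≫ FinSupp.idem N s =
      FinSupp.idem M s ≫ Limits.Sigma.map fun i => (e i).hom := by
    classical
    refine Sigma.hom_ext _ _ fun k => ?_
    rw [Limits.Sigma.ι_map_assoc, FinSupp.ι_idem, ← Category.assoc, FinSupp.ι_idem]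
    by_cases hk : k ∈ s <;> simp [hk]
  haveI : IsIso (Limits.Sigma.map fun i => (e i).hom) :=
    ⟨Limits.Sigma.map fun i => (e i).inv, Sigma.hom_ext _ _ fun k => by simp,
      Sigma.hom_ext _ _ fun k => by simp⟩
  rw [← cancel_mono (Limits.Sigma.map fun i => (e i).hom), Category.assoc, ← hn, ← Category.assoc, hs]

/-- Finite support, given that maps into the sum of representatives are chain maps. -/
theorem exists_support_of_chain {G : A} (hG : FinMaps G) (m : ℤ) {κ : Type v} (M : κ → DerivedCategory A)
    [HasCoproduct M] (I : κ → CochainComplex A ℤ) (e : ∀ i, M i ≅ DerivedCategory.Q.obj (I i))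
    (hchain : ∀ γ : DerivedCategory.Q.obj ((HomologicalComplex.single A (ComplexShape.up ℤ) m).obj G) ⟶
        DerivedCategory.Q.obj (∐ I), ∃ ψ, DerivedCategory.Q.map ψ = γ)
    (α : (DerivedCategory.singleFunctor A m).obj G ⟶ ∐ M) :
    ∃ s, α ≫ FinSupp.idem M s = α := by
  let Q' : CochainComplex A ℤ ⥤ DerivedCategory A := DerivedCategory.Q
  haveI : PreservesColimit (Discrete.functor I) Q' := QCoprod.preservesColimit_Q I
  haveI : HasCoproduct fun i => Q'.obj (I i) :=
    ⟨⟨⟨_, isColimitOfHasCoproductOfPreservesColimit Q' I⟩⟩⟩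
  refine exists_support_of_iso (N := fun i => Q'.obj (I i)) e (fun β => ?_) α
  let S := (HomologicalComplex.single A (ComplexShape.up ℤ) m).obj G
  let C := ∐ I
  let ev := fun q => HomologicalComplex.eval A (ComplexShape.up ℤ) q
  let ei : ∀ q, C.X q ≅ ∐ fun i => (I i).X q := fun q => PreservesCoproduct.iso (ev q) I
  let eS := (DerivedCategory.singleFunctorIsoCompQ A m).app G
  obtain ⟨ψ, hψ⟩ := hchain (eS.inv ≫ β ≫ sigmaComparison Q' I)
  obtain ⟨s, hs⟩ := hG κ (fun i => (I i).X m)
    ((HomologicalComplex.singleObjXSelf (ComplexShape.up ℤ) m G).inv ≫ ψ.f m ≫ (ei m).hom)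
  refine ⟨s, ?_⟩
  have hψs : ψ ≫ FinSupp.idem I s = ψ := by
    refine HomologicalComplex.hom_ext _ _ fun n => ?_
    by_cases hn : n = m
    · obtain rfl := hn.symm
      have hn' : FinSupp.idem (fun i => (I i).X m) s ≫ (ei m).inv =
          (ei m).inv ≫ (FinSupp.idem I s).f m := FinSupp.sigmaComparison_idem (ev m) I s
      have h := congrArg (fun t => (HomologicalComplex.singleObjXSelf (ComplexShape.up ℤ) m G).hom ≫
        t ≫ (ei m).inv) hs
      simp only [Category.assoc, hn', Iso.hom_inv_id_assoc] at h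
      simpa using h
    · exact (HomologicalComplex.isZero_single_obj_X _ _ _ _ hn).eq_of_src _ _
  have hQ : Q'.map ψ ≫ Q'.map (FinSupp.idem I s) = Q'.map ψ :=
    (Q'.map_comp _ _).symm.trans (congrArg Q'.map hψs)
  have hψ' : Q'.map ψ = eS.inv ≫ β ≫ sigmaComparison Q' I := hψ
  rw [hψ'] at hQ
  have hQ' : (β ≫ sigmaComparison Q' I) ≫ Q'.map (FinSupp.idem I s) = β ≫ sigmaComparison Q' I :=
    (cancel_epi eS.inv).1 ((Category.assoc _ _ _).symm.trans hQ)
  rw [Category.assoc, ← FinSupp.sigmaComparison_idem, ← Category.assoc] at hQ'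
  exact (cancel_mono (sigmaComparison Q' I)).1 hQ'

variable [HasExt.{w'} A]

/-- Uniformly bounded below families. -/
theorem holds_isGE [EnoughInjectives A] {G : A} (hG : FinMaps G) (hA : SumAcyclic.{w'} G) (m a : ℤ) :
    FinSupp.Holds.{v} (fun L : DerivedCategory A => L.IsGE a)
      ((DerivedCategory.singleFunctor A m).obj G) := by
  intro κ M _ hM α
  have key : ∀ i, ∃ I : CochainComplex A ℤ, I.IsStrictlyGE a ∧ (∀ q, Injective (I.X q)) ∧
      Nonempty (M i ≅ DerivedCategory.Q.obj I) := fun i => by
    haveI := hM i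
    obtain ⟨L, hL, ⟨e⟩⟩ := DerivedCategory.exists_iso_Q_obj_of_isGE (M i) a
    obtain ⟨J, f, hf, hJ, hg⟩ :=
      CochainComplex.Plus.modelCategoryQuillen.exists_quasiIso_injective L a
    haveI : IsIso (DerivedCategory.Q.map f) := by
      rw [DerivedCategory.isIso_Q_map_iff_quasiIso]; infer_instance
    exact ⟨J, hg, hJ, ⟨e ≪≫ asIso (DerivedCategory.Q.map f)⟩⟩
  choose I hge hI hiso using key
  let ei := fun q => PreservesCoproduct.iso (HomologicalComplex.eval A (ComplexShape.up ℤ) q) I
  haveI : (∐ I).IsStrictlyGE a := (CochainComplex.isStrictlyGE_iff _ a).2 fun q hq => by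
    refine IsZero.of_iso ?_ (ei q)
    exact (IsZero.iff_id_eq_zero _).2 (Sigma.hom_ext _ _ fun i =>
      ((haveI := hge i; CochainComplex.isZero_of_isStrictlyGE (I i) a q hq)).eq_of_src _ _)
  exact exists_support_of_chain hG m M I (fun i => (hiso i).some) (exists_Q_map_eq_single _ _ a
    (fun q => extAcyclic_of_iso _ (ei q).symm (hA κ _ fun i => hI i q)) m) α

/-- All families, for finite cohomological dimension. -/
theorem holds_of_cd {G : A} (hG : FinMaps G) (hA : SumAcyclic.{w'} G) {d : ℕ}
    (hd : ∀ (F : A) (p : ℕ), d < p → Subsingleton (Ext.{w'} G F p)) (m : ℤ) :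
    FinSupp.Holds.{v} (fun _ : DerivedCategory A => True) ((DerivedCategory.singleFunctor A m).obj G) := by
  intro κ M _ _ α
  obtain ⟨R, r, hR⟩ := KInjRes.exists_resolution_functor (A := A)
  let I := fun i => R.obj (DerivedCategory.Q.objPreimage (M i))
  let ei := fun q => PreservesCoproduct.iso (HomologicalComplex.eval A (ComplexShape.up ℤ) q) I
  have hQr : ∀ C, IsIso (DerivedCategory.Q.map (r.app C)) := fun C => by
    haveI := (hR C).2.1
    rw [DerivedCategory.isIso_Q_map_iff_quasiIso]; infer_instance
  refine exists_support_of_chain hG m M I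
    (fun i => (DerivedCategory.Q.objObjPreimageIso (M i)).symm ≪≫
      @asIso _ _ _ _ (DerivedCategory.Q.map (r.app (DerivedCategory.Q.objPreimage (M i))))
        (hQr _)) (fun γ => ?_) α
  haveI := (hR (∐ I)).2.1
  haveI := (hR (∐ I)).2.2.1
  exact exists_Q_map_eq_of_resolution _ (∐ I) (R.obj (∐ I)) (r.app (∐ I)) (hR (∐ I)).2.2.2
    (Or.inr ⟨d, hd⟩)
    (fun q => extAcyclic_of_iso _ (ei q).symm (hA κ _ fun i => (hR _).2.2.2 q)) m γ

end Groth.Agent.H15Site.CompactFree
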