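import Groth.Agent.H15Site.CompactFree.Chain
import Groth.Agent.H15Site.EdgeBase
import Groth.Agent.H15Site.EdgeAcyclic
import Mathlib.Algebra.Category.Grp.Colimits
import Mathlib.Algebra.DirectSum.Basic

/-!
# Free sheaves with cohomology commuting with direct sums
-/

set_option autoImplicit false
set_option linter.style.haveILetI false
set_option linter.unusedSectionVars false
set_option backward.isDefEq.respectTransparency false
set_option backward.isDefEq.respectTransparency.types false

universe u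

open CategoryTheory CategoryTheory.Limits CategoryTheory.Abelian Opposite

namespace Groth.Agent.H15Site.CompactFree

open Groth.Agent.H16Derived.QCohD Groth.Agent.H16Derived.BB

attribute [local instance 10000] SiteInst.hasSheafifySite SiteInst.hasWeakSheafifySite SiteInst.hasExtSite
  SiteInst.enoughInjSite

open Classical in
/-- A functor to abelian groups preserving coproducts: every element of the value on a coproduct is a finite
sum of components. -/
theorem exists_finite_sum {A : Type*} [Category A] (Φ : A ⥤ AddCommGrpCat.{u}) {κ : Type u} (F : κ → A)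
    [HasCoproduct F] [PreservesColimit (Discrete.functor F) Φ] (z : Φ.obj (∐ F)) :
    ∃ b : DirectSum κ fun i => Φ.obj (F i),
      DirectSum.toAddMonoid (fun i => (Φ.map (Sigma.ι F i)).hom) b = z := by
  classical
  let hc := isColimitCofanMkObjOfIsColimit Φ F _ (coproductIsCoproduct F)
  let c : Cofan fun i => Φ.obj (F i) := Cofan.mk (AddCommGrpCat.of (DirectSum κ fun i => Φ.obj (F i)))
    fun i => AddCommGrpCat.ofHom (DirectSum.of (fun i => Φ.obj (F i)) i)
  let m : Φ.obj (∐ F) ⟶ c.pt := hc.desc c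
  let s : c.pt ⟶ Φ.obj (∐ F) :=
    AddCommGrpCat.ofHom (DirectSum.toAddMonoid fun i => (Φ.map (Sigma.ι F i)).hom)
  have hms : m ≫ s = 𝟙 _ := by
    refine Cofan.IsColimit.hom_ext hc _ _ fun i => ?_
    have e : Φ.map (Sigma.ι F i) ≫ m = c.inj i := hc.fac c ⟨i⟩
    show Φ.map (Sigma.ι F i) ≫ m ≫ s = Φ.map (Sigma.ι F i) ≫ 𝟙 _
    rw [reassoc_of% e, Category.comp_id]
    refine AddCommGrpCat.hom_ext (AddMonoidHom.ext fun y => ?_)
    exact DirectSum.toAddMonoid_of (fun i => (Φ.map (Sigma.ι F i)).hom) i y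
  exact ⟨m.hom z, congrArg (fun t : Φ.obj (∐ F) ⟶ Φ.obj (∐ F) => t.hom z) hms⟩

variable {C : Type u} [SmallCategory C] {J : GrothendieckTopology C} {U : C}

/-- Acyclic sheaves sum to acyclic sheaves. -/
theorem extAcyclic_sigma (h : ∀ (p : ℕ) (ι : Type u), PreservesColimitsOfShape (Discrete ι)
      ((Sheaf.cohomologyPresheafFunctor J p).flip.obj (op U))) {κ : Type u}
    (F : κ → Sheaf J AddCommGrpCat.{u}) (hF : ∀ i, ExtAcyclic.{u} (CohCx.freeSheaf J U) (F i)) :
    ExtAcyclic.{u} (CohCx.freeSheaf J U) (∐ F) := by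
  intro p
  haveI := h (p + 1) κ
  let Φ := (Sheaf.cohomologyPresheafFunctor J (p + 1)).flip.obj (op U)
  refine subsingleton_of_forall_eq 0 fun x => ?_
  obtain ⟨b, hb⟩ := exists_finite_sum Φ F x
  have hb0 : b = 0 := DFinsupp.ext fun i => (hF i p).elim _ _
  rw [← hb, hb0]
  exact map_zero _

/-- Injectives sum to acyclic sheaves. -/
theorem sumAcyclic_freeSheaf (h : ∀ (p : ℕ) (ι : Type u), PreservesColimitsOfShape (Discrete ι)
      ((Sheaf.cohomologyPresheafFunctor J p).flip.obj (op U))) :
    SumAcyclic.{u} (CohCx.freeSheaf J U) := fun κ F hF =>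
  extAcyclic_sigma h F fun i => haveI := hF i; extAcyclic_of_injective _ _

/-- Maps from the free sheaf into direct sums have finite support. -/
theorem finMaps_freeSheaf (h : ∀ (p : ℕ) (ι : Type u), PreservesColimitsOfShape (Discrete ι)
      ((Sheaf.cohomologyPresheafFunctor J p).flip.obj (op U))) :
    FinMaps (CohCx.freeSheaf J U) := by
  classical
  intro κ F g
  haveI := h 0 κ
  let Φ := (Sheaf.cohomologyPresheafFunctor J 0).flip.obj (op U)
  obtain ⟨b, hb⟩ := exists_finite_sum Φ F (Ext.mk₀ g)
  refine ⟨DFinsupp.support b, (Ext.mk₀_bijective.{u} _ _).1 ?_⟩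
  let L : Φ.obj (∐ F) →+ Φ.obj (∐ F) := (Φ.map (FinSupp.idem F (DFinsupp.support b))).hom
  have key : L (Ext.mk₀ g) = Ext.mk₀ g := by
    rw [← hb]
    conv_lhs => rw [← DirectSum.sum_support_of b]
    conv_rhs => rw [← DirectSum.sum_support_of b]
    rw [map_sum, map_sum]
    refine Finset.sum_congr rfl fun i hi => ?_
    rw [DirectSum.toAddMonoid_of]
    refine (congrArg (fun t : Φ.obj (F i) ⟶ Φ.obj (∐ F) => t.hom (b i))
      (Φ.map_comp (Sigma.ι F i) (FinSupp.idem F _)).symm).trans ?_
    rw [FinSupp.ι_idem, if_pos hi]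
  exact ((Ext.mk₀_comp_mk₀ g _).symm).trans key

end Groth.Agent.H15Site.CompactFree
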