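import Groth.Agent.H15Site.CompactFree.Free
import Groth.Agent.H15Site.ModExtFree
import Groth.Agent.H15Site.FreeOn
import Groth.Agent.H15Site.CoprodSect
import Groth.Agent.H10Coh.ModGroth
import Groth.Agent.H15Site.CohColim.FamApps

/-!
# `j_! O_U` and direct sums of modules
-/

set_option autoImplicit false
set_option linter.style.haveILetI false
set_option linter.unusedSectionVars false
set_option backward.isDefEq.respectTransparency false
set_option backward.isDefEq.respectTransparency.types false

universe u

open CategoryTheory CategoryTheory.Limits CategoryTheory.Abelian Opposite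

namespace Groth.Agent.H15Site.CompactFree

open Groth.Agent.H16Derived.QCohD Groth.Agent.H16Derived.BB ModTensor

attribute [local instance 10000] SiteInst.hasSheafifySite SiteInst.hasWeakSheafifySite SiteInst.hasExtSite
  SiteInst.enoughInjSite
attribute [local instance] H10Coh.isGrothendieckAbelian_sheafOfModules

variable {C : Type u} [SmallCategory C] {J : GrothendieckTopology C} (O : Sheaf J CommRingCat.{u})

/-- Maps from `j_! O_U` into sums have finite support for quasi-compact `U`. -/
theorem finMaps_freeOn {U : C} (hU : CoprodSect.QcObj J U) : FinMaps (ModSite.freeOn O U) := by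
  classical
  intro κ F g
  obtain ⟨A, y, hy⟩ := CoprodSect.exists_combination F hU (FreeOn.homEquiv O U _ g)
  refine ⟨A, (FreeOn.homEquiv O U _).injective ?_⟩
  rw [FreeOn.homEquiv_comp, hy]
  refine (map_sum ((FinSupp.idem F A).val.app (op U)).hom _ A).trans (Finset.sum_congr rfl fun i hi => ?_)
  exact congrArg (fun k : F i ⟶ ∐ F => (k.val.app (op U)).hom (y i))
    ((FinSupp.ι_idem F A i).trans (if_pos hi))

/-- `j_! O_U` is the free module on `h_U`. -/
noncomputable def freeOnIso (U : C) :
    ModExtFree.freeMod (ModSite.ringSh O) (yoneda.obj U) ≅ ModSite.freeOn O U :=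
  Functor.CorepresentableBy.uniqueUpToIso
    (F := SheafOfModules.toSheaf (ModSite.ringSh O) ⋙ sheafToPresheaf J AddCommGrpCat.{u} ⋙
      (evaluation _ _).obj (op U) ⋙ forget AddCommGrpCat.{u})
    { homEquiv := fun {F} => (ModExtFree.modEquiv (ModSite.ringSh O) (yoneda.obj U) F).trans yonedaEquiv
      homEquiv_comp := fun {F G} g t => by
        simp only [Equiv.trans_apply, ModExtFree.modEquiv_naturality, yonedaEquiv_comp]
        rfl }
    (FreeOn.corepresentableBy O U)

/-- `Ext` out of `j_! O_U` from cohomology of the underlying abelian sheaf. -/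
theorem subsingleton_ext_freeOn [HasExt.{u} (ModSite.Mod O)] (U : C) (M : ModSite.Mod O) (p : ℕ)
    (h : Subsingleton (Ext.{u} (CohCx.freeSheaf J U) (ModSite.toAb M) p)) :
    Subsingleton (Ext.{u} (ModSite.freeOn O U) M p) := by
  haveI := H10Coh.enoughInjectives_sheafOfModules (ModSite.ringSh O)
  haveI := h
  exact CohColim.subsingleton_ext_of_iso (freeOnIso O U)
    (ModExtFree.extEquiv (ModSite.ringSh O) (yoneda.obj U) M p).toEquiv.subsingleton

/-- Sums of injective modules are acyclic for `j_! O_U`. -/
theorem sumAcyclic_freeOn [HasExt.{u} (ModSite.Mod O)] {U : C}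
    (h : ∀ (p : ℕ) (ι : Type u), PreservesColimitsOfShape (Discrete ι)
      ((Sheaf.cohomologyPresheafFunctor J p).flip.obj (op U))) :
    SumAcyclic.{u} (ModSite.freeOn O U) := by
  intro κ F hF p
  refine subsingleton_ext_freeOn O U _ _ ?_
  haveI := H10Coh.preservesColimitsOfShape_toSheaf (ModSite.ringSh O) (Discrete κ)
  let T := SheafOfModules.toSheaf (ModSite.ringSh O)
  exact extAcyclic_of_iso _ (PreservesCoproduct.iso T F).symm
    (extAcyclic_sigma h (fun i => T.obj (F i)) fun i m => haveI := hF i
      ModInjAcyclic.subsingleton_ext (ModSite.ringSh O) (F i) m _ (TorsionFree.tf_sheafify_free _)) p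

end Groth.Agent.H15Site.CompactFree
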